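import Groth.Agent.FinHopf.PerfTensor
import Mathlib.AlgebraicGeometry.Pullbacks

/-! # Products of reduced schemes over perfect fields -/

universe u

open CategoryTheory CategoryTheory.Limits AlgebraicGeometry

namespace Groth.Agent.Assoc

variable (K : Type u) [Field K] [PerfectField K]

lemma isReduced_pullback_spec (A B : CommRingCat.{u}) [_root_.IsReduced A] [_root_.IsReduced B]
    (φ : CommRingCat.of K ⟶ A) (ψ : CommRingCat.of K ⟶ B) :
    IsReduced (pullback (Spec.map φ) (Spec.map ψ)) := by
  let : Algebra K A := φ.hom.toAlgebra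
  let : Algebra K B := ψ.hom.toAlgebra
  have := FinHopf.isReduced_tensor_of_perfect K B A
  exact isReduced_of_isOpenImmersion (pullbackSpecIso K A B).hom

lemma isReduced_pullback_affine {U V : Scheme.{u}} [IsAffine U] [IsAffine V] [IsReduced U]
    [IsReduced V] (f : U ⟶ Spec (.of K)) (g : V ⟶ Spec (.of K)) : IsReduced (pullback f g) := by
  obtain ⟨φ, hφ⟩ := Spec.map_surjective (U.isoSpec.inv ≫ f)
  obtain ⟨ψ, hψ⟩ := Spec.map_surjective (V.isoSpec.inv ≫ g)
  have := isReduced_pullback_spec K _ _ φ ψ
  exact isReduced_of_isOpenImmersion (pullback.map f g (Spec.map φ) (Spec.map ψ)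
      U.isoSpec.hom V.isoSpec.hom (𝟙 _) (by simp [hφ]) (by simp [hψ]))

/-- Products of reduced schemes over a perfect field are reduced. -/
theorem isReduced_pullback {X Y : Scheme.{u}} [IsReduced X] [IsReduced Y]
    (f : X ⟶ Spec (.of K)) (g : Y ⟶ Spec (.of K)) : IsReduced (pullback f g) := by
  apply +allowSynthFailures @IsReduced.of_openCover
    (𝒰 := Scheme.Pullback.openCoverOfLeftRight X.affineCover Y.affineCover f g)
  intro i
  have : IsReduced (X.affineCover.X i.1) := isReduced_of_isOpenImmersion (X.affineCover.f i.1)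
  have : IsReduced (Y.affineCover.X i.2) := isReduced_of_isOpenImmersion (Y.affineCover.f i.2)
  exact isReduced_pullback_affine K _ _

end Groth.Agent.Assoc
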