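import Groth.Prelude.Def_AlgGrp
import Mathlib.AlgebraicGeometry.Morphisms.Affine

/-! # A homomorphism is a torsor under its kernel -/

universe u

open CategoryTheory CategoryTheory.Limits MonoidalCategory CartesianMonoidalCategory MonObj AlgebraicGeometry

namespace Groth.Agent.Assoc

variable {S : Scheme.{u}} {G H Q : Over S} [GrpObj G] [GrpObj H] [GrpObj Q]
  (h : H ⟶ G) [IsMonHom h] (q : G ⟶ Q) [IsMonHom q]

lemma kernel_comp_eq_one (hk : AlgGrp.IsKernel h q) {T : Over S} (z : T ⟶ H) :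
    z ≫ h ≫ q = 1 := by
  rw [hk.w, ← Category.assoc, toUnit_unique (z ≫ toUnit H) (toUnit T), Hom.one_def]

/-- `G ×_Q G ≅ G × ker q` -/
theorem kernel_isPullback (hk : AlgGrp.IsKernel h q) :
    IsPullback (fst G H) ((G ◁ h) ≫ μ[G]) q q := by
  have hmul : (G ◁ h) ≫ μ[G] = fst G H * (snd G H ≫ h) := by
    rw [Hom.mul_def]
    congr 1
  have hz : ∀ s : PullbackCone q q, (s.fst⁻¹ * s.snd) ≫ q = toUnit s.pt ≫ η[Q] := fun s ↦ by
    rw [MonObj.mul_comp, GrpObj.inv_comp, s.condition, inv_mul_cancel, Hom.one_def]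
  refine ⟨⟨?_⟩, ⟨PullbackCone.IsLimit.mk _
    (fun s ↦ lift s.fst (hk.lift (s.fst⁻¹ * s.snd) (toUnit _) (hz s)))
    (fun s ↦ lift_fst _ _) (fun s ↦ ?_) (fun s m hm₁ hm₂ ↦ ?_)⟩⟩
  · rw [hmul, MonObj.mul_comp, Category.assoc, kernel_comp_eq_one h q hk, _root_.mul_one]
  · rw [hmul, comp_mul, lift_fst, lift_snd_assoc, hk.lift_fst, mul_inv_cancel_left]
  · apply CartesianMonoidalCategory.hom_ext
    · rw [lift_fst, hm₁]
    · rw [lift_snd]
      apply hk.hom_ext
      · rw [hk.lift_fst, eq_inv_mul_iff_mul_eq, ← hm₁, ← hm₂, hmul, comp_mul, Category.assoc]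
      · exact toUnit_unique _ _

lemma isPullback_whiskerRight {X Y Z : Over S} (f : X ⟶ Y) :
    IsPullback (fst X Z).left (f ▷ Z).left f.left (fst Y Z).left := by
  suffices h : IsPullback (fst X Z) (f ▷ Z) f (fst Y Z) from h.map (Over.forget S)
  refine ⟨⟨(whiskerRight_fst f Z).symm⟩, ⟨PullbackCone.IsLimit.mk _
    (fun s ↦ lift s.fst (s.snd ≫ snd Y Z)) (fun s ↦ lift_fst _ _) (fun s ↦ ?_) (fun s m h1 h2 ↦ ?_)⟩⟩
  · apply CartesianMonoidalCategory.hom_ext
    · simpa using s.condition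
    · simp
  · apply CartesianMonoidalCategory.hom_ext
    · simpa using h1
    · simp [← h2]

lemma isPullback_whiskerLeft {X Y Z : Over S} (f : X ⟶ Y) :
    IsPullback (snd Z X).left (Z ◁ f).left f.left (snd Z Y).left := by
  suffices h : IsPullback (snd Z X) (Z ◁ f) f (snd Z Y) from h.map (Over.forget S)
  refine ⟨⟨(whiskerLeft_snd Z f).symm⟩, ⟨PullbackCone.IsLimit.mk _
    (fun s ↦ lift (s.snd ≫ fst Z Y) s.fst) (fun s ↦ lift_snd _ _) (fun s ↦ ?_) (fun s m h1 h2 ↦ ?_)⟩⟩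
  · apply CartesianMonoidalCategory.hom_ext
    · simp
    · simpa using s.condition
  · apply CartesianMonoidalCategory.hom_ext
    · simp [← h2]
    · simpa using h1

end Groth.Agent.Assoc
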