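import Groth.Agent.Assoc.Kernel
import Mathlib.AlgebraicGeometry.AlgClosed.Basic
import Mathlib.AlgebraicGeometry.Morphisms.FlatDescent

/-! # Extensions of connected groups are connected -/

universe u

open CategoryTheory CategoryTheory.Limits MonoidalCategory CartesianMonoidalCategory MonObj AlgebraicGeometry

namespace Groth.Agent.Assoc

variable {k : Type u} [Field k] {G N : Over (Spec (CommRingCat.of k))} [GrpObj G] [GrpObj N]
  [LocallyOfFiniteType G.hom] [LocallyOfFiniteType N.hom] [ConnectedSpace N.left]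

omit [GrpObj G] [LocallyOfFiniteType G.hom] in
/-- a clopen of `{g} × N`, `g` closed, missing `(g, 1)` is empty -/
lemma clopen_over_point_eq_empty {P : Scheme.{u}} (p : P ⟶ Spec (CommRingCat.of k)) [IsFinite p]
    (D : Set ↥(pullback p N.hom)) (hD : IsClopen D)
    (he : Set.range (pullback.lift (𝟙 _) (p ≫ η[N].left)
      (by rw [Category.id_comp, Category.assoc, Over.w η[N]]; exact (Category.comp_id p).symm)) ∩ D = ∅) :
    D = ∅ := by
  let sec : P ⟶ pullback p N.hom := pullback.lift (𝟙 _) (p ≫ η[N].left)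
    (by rw [Category.id_comp, Category.assoc, Over.w η[N]]; exact (Category.comp_id p).symm)
  let π := pullback.snd p N.hom
  by_contra hne
  have : Flat p := inferInstance
  have : LocallyOfFinitePresentation p := inferInstance
  have hop : IsOpenMap π := π.isOpenMap
  have hcl : IsClosedMap π := π.isClosedMap
  have huniv : π '' D = Set.univ :=
    IsClopen.eq_univ ⟨hcl _ hD.1, hop _ hD.2⟩ ((Set.nonempty_iff_ne_empty.mpr hne).image _)
  obtain ⟨w, hwD, hw⟩ : η[N].left (IsLocalRing.closedPoint k) ∈ π '' D := by rw [huniv]; trivial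
  have hpb : IsPullback sec p π η[N].left := by
    refine ⟨⟨pullback.lift_snd _ _ _⟩, ⟨PullbackCone.IsLimit.mk _
      (fun s ↦ s.fst ≫ pullback.fst p N.hom) (fun s ↦ ?_) (fun s ↦ ?_) (fun s m hm _ ↦ ?_)⟩⟩
    · apply pullback.hom_ext
      · rw [Category.assoc, pullback.lift_fst, Category.comp_id]
      · rw [Category.assoc, pullback.lift_snd, s.condition, Category.assoc,
          pullback.condition_assoc, ← Category.assoc s.fst, s.condition, Category.assoc]
        rw [← Category.assoc η[N].left, Over.w η[N]]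
        exact congrArg (s.snd ≫ ·) (Category.id_comp _).symm
    · rw [Category.assoc, pullback.condition, ← Category.assoc, s.condition, Category.assoc, Over.w η[N]]
      exact Category.comp_id _
    · rw [← hm, Category.assoc, pullback.lift_fst, Category.comp_id]
  have hmem : w ∈ Set.range sec := by
    rw [← hpb.isoPullback_hom_fst, Scheme.Hom.comp_base, TopCat.coe_comp, Set.range_comp,
      Set.range_eq_univ.mpr (Scheme.Hom.surjective hpb.isoPullback.hom), Set.image_univ,
      Scheme.Pullback.range_fst]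
    exact ⟨IsLocalRing.closedPoint k, hw.symm⟩
  exact (Set.eq_empty_iff_forall_notMem.mp he) w ⟨hmem, hwD⟩

/-- clopens are stable under a connected subgroup -/
lemma clopen_stable (i : N ⟶ G) [IsMonHom i] (A : Set G.left) (hA : IsClopen A) :
    ((G ◁ i) ≫ μ[G]).left ⁻¹' A = (fst G N).left ⁻¹' A := by
  let f₁ := ((G ◁ i) ≫ μ[G]).left
  let f₂ := (fst G N).left
  have hA₁ : IsClopen (f₁ ⁻¹' A) := hA.preimage f₁.continuous
  have hA₂ : IsClopen (f₂ ⁻¹' A) := hA.preimage f₂.continuous
  let D : Set (G ⊗ N).left := (f₁ ⁻¹' A \ f₂ ⁻¹' A) ∪ (f₂ ⁻¹' A \ f₁ ⁻¹' A)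
  have hD : IsClopen D := (hA₁.diff hA₂).union (hA₂.diff hA₁)
  suffices D = ∅ by
    ext z
    have h := Set.eq_empty_iff_forall_notMem.mp this z
    simp only [D, Set.mem_union, Set.mem_diff] at h
    tauto
  by_contra hne
  have : LocallyOfFiniteType (G ⊗ N).hom := by
    change LocallyOfFiniteType (pullback.fst G.hom N.hom ≫ G.hom)
    infer_instance
  have : JacobsonSpace (G ⊗ N).left :=
    LocallyOfFiniteType.jacobsonSpace (Y := Spec _) (G ⊗ N).hom
  have : JacobsonSpace G.left := LocallyOfFiniteType.jacobsonSpace (Y := Spec _) G.hom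
  obtain ⟨z, hzD, hz⟩ := nonempty_inter_closedPoints (Set.nonempty_iff_ne_empty.mpr hne)
    hD.2.isLocallyClosed
  have hg : IsClosed ({f₂ z} : Set G.left) := by
    have : LocallyOfFiniteType (f₂ : (G ⊗ N).left ⟶ G.left) := by
      change LocallyOfFiniteType (pullback.fst G.hom N.hom); infer_instance
    exact f₂.closePoints_subset_preimage_closedPoints hz
  let x := G.left.fromSpecResidueField (f₂ z)
  let p := x ≫ G.hom
  have : IsFinite p := by
    rw [isClosed_singleton_iff_isClosedImmersion] at hg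
    rw [isFinite_iff_locallyOfFiniteType_of_jacobsonSpace]
    infer_instance
  let m : pullback p N.hom ⟶ pullback G.hom N.hom :=
    pullback.map p N.hom G.hom N.hom x (𝟙 _) (𝟙 _) (by simp [p]) (by simp)
  have hzm : z ∈ Set.range m := by
    rw [Scheme.Pullback.range_map, Set.range_eq_univ.mpr (Scheme.Hom.surjective (𝟙 N.left))]
    refine ⟨?_, trivial⟩
    rw [Set.mem_preimage, Scheme.range_fromSpecResidueField]
    rfl
  obtain ⟨w, hw⟩ := hzm
  have hempty : (m ⁻¹' D) = ∅ := by
    refine clopen_over_point_eq_empty p _ (hD.preimage m.continuous) ?_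
    refine Set.eq_empty_iff_forall_notMem.mpr ?_
    rintro _ ⟨⟨s, rfl⟩, hs⟩
    let P : Over (Spec (CommRingCat.of k)) := Over.mk p
    let x' : P ⟶ G := Over.homMk x rfl
    let σ : P ⟶ G ⊗ N := lift x' (toUnit P ≫ η[N])
    have hσ : σ.left = pullback.lift (𝟙 _) (p ≫ η[N].left)
        (by rw [Category.id_comp, Category.assoc, Over.w η[N]]; exact (Category.comp_id p).symm) ≫ m := by
      apply pullback.hom_ext
      · rw [Category.assoc, pullback.lift_fst, pullback.lift_fst_assoc]
        exact (congr(($(lift_fst x' (toUnit P ≫ η[N]))).left)).trans (Category.id_comp _).symm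
      · rw [Category.assoc, pullback.lift_snd, pullback.lift_snd_assoc]
        exact (congr(($(lift_snd x' (toUnit P ≫ η[N]))).left)).trans (Category.comp_id _).symm
    have h12 : σ ≫ (G ◁ i) ≫ μ[G] = σ ≫ fst G N := by
      rw [lift_fst, lift_whiskerLeft_assoc, Category.assoc, IsMonHom.one_hom, ← Hom.one_def,
        ← Hom.mul_def, _root_.mul_one]
    have e1 : σ.left ≫ f₁ = σ.left ≫ f₂ := congr(($h12).left)
    have e2 : f₁ (σ.left s) = f₂ (σ.left s) := by
      rw [← Scheme.Hom.comp_apply, e1, Scheme.Hom.comp_apply]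
    rw [Set.mem_preimage, ← Scheme.Hom.comp_apply, ← hσ] at hs
    rcases hs with ⟨ha, hb⟩ | ⟨ha, hb⟩
    · exact hb (show f₂ (σ.left s) ∈ A by rw [← e2]; exact ha)
    · exact hb (show f₁ (σ.left s) ∈ A by rw [e2]; exact ha)
  exact Set.eq_empty_iff_forall_notMem.mp hempty w (show m w ∈ D by rw [hw]; exact hzD)

end Groth.Agent.Assoc
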