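import Groth.Agent.Assoc.Bundle
import Groth.Agent.SchDescent.Section
import Mathlib.AlgebraicGeometry.Sites.Fpqc

/-! # Bundles associated to Zariski-locally trivial torsors, with any fibre -/

universe u

open CategoryTheory CategoryTheory.Limits MonoidalCategory CartesianMonoidalCategory MonObj AlgebraicGeometry

namespace Groth.Agent.Assoc

open Groth.Agent

variable {S : Scheme.{u}} {G X Y Z : Over S} [GrpObj G] (a : AlgGrp.Action G X)
  (b : AlgGrp.Action G Z) (f : X ⟶ Y) (hsq : IsPullback a.act.left (snd G X).left f.left f.left)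

include hsq in
/-- a torsor with sections locally on the base has associated bundles with any fibre -/
theorem exists_bundle_of_locally_section [Surjective f.left] [Flat f.left] [QuasiCompact f.left]
    (H : ∀ y : Y.left, ∃ (U0 : Y.left.Opens) (s : U0.toScheme ⟶ X.left), y ∈ U0 ∧ s ≫ f.left = U0.ι) :
    ∃ (W : Over S) (φ : X ⊗ Z ⟶ W) (ψ : W ⟶ Y),
      lift ((G ◁ fst X Z) ≫ a.act) ((G ◁ snd X Z) ≫ b.act) ≫ φ = snd G (X ⊗ Z) ≫ φ ∧
      IsPullback (fst X Z).left φ.left f.left ψ.left := by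
  let σ := (act' a b f hsq).left
  let q := (fst X Z).left
  have hσ : σ ≫ q = pullback.fst f.left (q ≫ f.left) := by
    change (act' a b f hsq ≫ fst X Z).left = _
    rw [act', lift_fst]; rfl
  have h1 : ∀ {T' : Scheme.{u}} (z : T' ⟶ (X ⊗ Z).left) (h : (z ≫ q) ≫ f.left = z ≫ q ≫ f.left),
      pullback.lift (z ≫ q) z h ≫ σ = z := by
    intro T' z h
    let w : Over.mk (z ≫ (X ⊗ Z).hom) ⟶ X ⊗ Z := Over.homMk z rfl
    have := act'_eval a b f hsq (w ≫ fst X Z) w 1 (GrpAct.one_smul' a _) h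
    rw [GrpAct.one_smul' b, lift_comp_fst_snd] at this
    exact this
  have h2 : ∀ {T' : Scheme.{u}} (c c' : T' ⟶ X.left) (z : T' ⟶ (X ⊗ Z).left)
      (h₁ : c ≫ f.left = z ≫ q ≫ f.left)
      (h₂ : c' ≫ f.left = (pullback.lift c z h₁ ≫ σ) ≫ q ≫ f.left)
      (h₃ : c' ≫ f.left = z ≫ q ≫ f.left),
      pullback.lift c' (pullback.lift c z h₁ ≫ σ) h₂ ≫ σ = pullback.lift c' z h₃ ≫ σ := by
    intro T' c c' z h₁ h₂ h₃
    let T'' : Over S := Over.mk (z ≫ (X ⊗ Z).hom)
    let w : T'' ⟶ X ⊗ Z := Over.homMk z rfl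
    have hov : ∀ d : T' ⟶ X.left, d ≫ f.left = z ≫ q ≫ f.left → d ≫ X.hom = z ≫ (X ⊗ Z).hom := by
      intro d hd
      have := congr($hd ≫ Y.hom)
      simpa only [q, Category.assoc, Over.w] using this
    let x : T'' ⟶ X := Over.homMk c (hov c h₁)
    let x' : T'' ⟶ X := Over.homMk c' (hov c' h₃)
    have e₁ : x ≫ f = (w ≫ fst X Z) ≫ f := Over.OverMorphism.ext (h₁.trans (Category.assoc _ _ _).symm)
    let g := div a f hsq _ _ e₁
    let w' := lift x (lift g (w ≫ snd X Z) ≫ b.act)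
    have hw' : pullback.lift c z h₁ ≫ σ = w'.left :=
      act'_eval a b f hsq x w g (div_spec a f hsq _ _ e₁) h₁
    have e₂ : x' ≫ f = (w' ≫ fst X Z) ≫ f := by
      rw [lift_fst]; exact Over.OverMorphism.ext (h₃.trans h₁.symm)
    let g' := div a f hsq _ _ e₂
    have hg' : lift (g' * g) (w ≫ fst X Z) ≫ a.act = x' := by
      rw [GrpAct.mul_smul, div_spec a f hsq _ _ e₁]
      have hx' : w' ≫ fst X Z = x := lift_fst _ _
      conv_lhs => rw [← hx']
      exact div_spec a f hsq _ _ e₂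
    have l := act'_eval a b f hsq x' w' g' (div_spec a f hsq _ _ e₂) (by rw [← hw']; exact h₂)
    have r := act'_eval a b f hsq x' w (g' * g) hg' h₃
    rw [GrpAct.mul_smul] at r
    simp only [w', lift_snd] at l
    convert l.trans r.symm using 3 <;> first | exact hw' | rfl
  let D := SchDescent.ofAction σ hσ h1 h2
  have : Fact (Presieve.singleton f.left ∈ Scheme.fpqcPrecoverage Y.left) :=
    ⟨f.left.singleton_mem_fpqcPrecoverage⟩
  obtain ⟨W, SC, π, hpb, hπ⟩ := SchDescent.exists_quotient_of_effective σ hσ h1 h2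
    (SchDescent.effective_of_locally_section D H)
  let φ : X ⊗ Z ⟶ Over.mk (SC ≫ Y.hom) := Over.homMk π (by
    change π ≫ SC ≫ Y.hom = _
    rw [← reassoc_of% hpb.w, Over.w f, Over.w (fst X Z)])
  refine ⟨Over.mk (SC ≫ Y.hom), φ, Over.homMk SC rfl, ?_, hpb⟩
  apply Over.OverMorphism.ext
  let g := fst G (X ⊗ Z)
  let w := snd G (X ⊗ Z)
  let x := lift g (w ≫ fst X Z) ≫ a.act
  have e : x ≫ f = (w ≫ fst X Z) ≫ f := by
    rw [Category.assoc, Over.OverMorphism.ext (f := a.act ≫ f) (g := snd G X ≫ f) hsq.w]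
    simp [w]
  have hx : x.left ≫ f.left = w.left ≫ (fst X Z).left ≫ f.left :=
    congr(($e).left).trans (Category.assoc _ _ _)
  have key := act'_eval a b f hsq x w g rfl hx
  have e1 : lift ((G ◁ fst X Z) ≫ a.act) ((G ◁ snd X Z) ≫ b.act) =
      lift x (lift g (w ≫ snd X Z) ≫ b.act) := by
    simp only [x, g, w]
    congr 1 <;> congr 1 <;> apply CartesianMonoidalCategory.hom_ext <;> simp
  rw [e1]
  change (lift x (lift g (w ≫ snd X Z) ≫ b.act)).left ≫ π = w.left ≫ π
  rw [← key]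
  change (pullback.lift x.left w.left hx ≫ σ) ≫ π = _
  rw [Category.assoc, hπ, pullback.lift_snd_assoc]

end Groth.Agent.Assoc
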