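import Groth.Agent.Assoc.Bundle
import Groth.Agent.GrpAct.TorsorMap
import Groth.Prelude.Def_ChGrp

/-! # The associated bundle is a quotient by a torsor -/

universe u

open CategoryTheory CategoryTheory.Limits MonoidalCategory CartesianMonoidalCategory MonObj AlgebraicGeometry

namespace Groth.Agent.Assoc

open Groth.Agent

variable {S : Scheme.{u}} {G X Y Z W : Over S} [GrpObj G] (a : AlgGrp.Action G X)
  (b : AlgGrp.Action G Z) (f : X ⟶ Y) (φ : X ⊗ Z ⟶ W) (ψ : W ⟶ Y)

theorem bundle_isPullback (hcart : IsPullback a.act (snd G X) f f)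
    (hinv : (a.prod b).act ≫ φ = snd G (X ⊗ Z) ≫ φ) (hpb : IsPullback (fst X Z) φ f ψ) :
    IsPullback (a.prod b).act (snd G (X ⊗ Z)) φ φ := by
  have hfst : ∀ s : PullbackCone φ φ, (s.fst ≫ fst X Z) ≫ f = (s.snd ≫ fst X Z) ≫ f := fun s => by
    rw [Category.assoc, Category.assoc, hpb.w, ← Category.assoc, s.condition, Category.assoc]
  have hsq := QuotShLib.left_of_isKernelPair hcart
  have hkey : ∀ {T : Over S} (g : T ⟶ G) (w : T ⟶ X ⊗ Z),
      (lift g w ≫ (a.prod b).act) ≫ fst X Z = lift g (w ≫ fst X Z) ≫ a.act := fun g w => by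
    conv_lhs => rw [← lift_comp_fst_snd w, AlgGrp.Action.lift_prod_act, lift_fst]
  refine ⟨⟨hinv⟩, ⟨PullbackCone.IsLimit.mk _
    (fun s => lift (div a f hsq _ _ (hfst s)) s.snd) (fun s => ?_) (fun s => lift_snd _ _)
    (fun s m h1 h2 => ?_)⟩⟩
  · apply hpb.hom_ext
    · rw [hkey]
      exact div_spec a f hsq _ _ (hfst s)
    · rw [Category.assoc, hinv, lift_snd_assoc, s.condition]
  · apply CartesianMonoidalCategory.hom_ext
    · rw [lift_fst]
      refine div_unique a f hsq (s.snd ≫ fst X Z) _ _ ?_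
      rw [div_spec a f hsq _ _ (hfst s), ← hkey, ← h2, lift_comp_fst_snd, h1]
    · rw [lift_snd, h2]

/-- a flat surjective quasi-compact map is trivialised by itself -/
theorem isLocallyTrivialFor_self {X Y : Scheme.{u}} (f : X ⟶ Y) [Flat f] [Surjective f]
    [QuasiCompact f] : NonAbH1.IsLocallyTrivialFor Scheme.fpqcPrecoverage (Over.mk f : Over Y) :=
  ⟨Presieve.singleton f, f.singleton_mem_fpqcPrecoverage, by
    rintro _ _ ⟨⟩
    exact ⟨𝟙 _, Category.id_comp _⟩⟩

end Groth.Agent.Assoc
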