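import Groth.Prelude.Def_ChGrp
import Mathlib.AlgebraicGeometry.Sites.Fpqc

/-! # Morphisms descend along a locally trivial map with known kernel pair -/

set_option autoImplicit false
set_option backward.isDefEq.respectTransparency false
universe u

open CategoryTheory CategoryTheory.Limits MonoidalCategory CartesianMonoidalCategory MonObj AlgebraicGeometry Opposite

namespace Groth.Agent.Assoc

variable {S : Scheme.{u}} {X Y P W₀ : Over S}

theorem hom_ext_sieve {T Z : Scheme.{u}} {V : Sieve T} (hV : V ∈ Scheme.fppfTopology T) {a b : T ⟶ Z}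
    (h : ∀ {W : Scheme.{u}} (g : W ⟶ T), V g → g ≫ a = g ≫ b) : a = b :=
  ((GrothendieckTopology.Subcanonical.isSheaf_of_isRepresentable (J := Scheme.fppfTopology) (yoneda.obj Z)) V hV).isSeparatedFor.ext fun _ g hg => h g hg

/-- two points with the same image in `Y` have the same image under an invariant morphism -/
theorem comp_eq_of_pair {p q : W₀ ⟶ X} {j : X ⟶ Y} (h : IsPullback p q j j) {ψ : X ⟶ P} (hψ : p ≫ ψ = q ≫ ψ)
    {W : Scheme.{u}} (x₁ x₂ : W ⟶ X.left) (e : x₁ ≫ j.left = x₂ ≫ j.left) : x₁ ≫ ψ.left = x₂ ≫ ψ.left := by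
  have hw : x₂ ≫ X.hom = x₁ ≫ X.hom := by rw [← Over.w j, ← reassoc_of% e]
  let a : Over.mk (x₁ ≫ X.hom) ⟶ X := Over.homMk x₁
  let b : Over.mk (x₁ ≫ X.hom) ⟶ X := Over.homMk x₂ hw
  have hab : a ≫ j = b ≫ j := Over.OverMorphism.ext e
  have : a ≫ ψ = b ≫ ψ := by
    rw [← h.lift_fst a b hab, Category.assoc, hψ, ← Category.assoc, h.lift_snd]
  exact congr($(this).left)

/-- a morphism equalised by the kernel pair of a locally trivial map descends uniquely -/
theorem existsUnique_desc_of_locTriv {p q : W₀ ⟶ X} {j : X ⟶ Y} (h : IsPullback p q j j)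
    (loc : NonAbH1.IsLocallyTrivialFor Scheme.fppfPrecoverage (Over.mk j.left : Over Y.left))
    (ψ : X ⟶ P) (hψ : p ≫ ψ = q ≫ ψ) : ∃! χ : Y ⟶ P, j ≫ χ = ψ := by
  obtain ⟨R, hR, hs⟩ := loc
  choose σ hσ using fun {W : Scheme.{u}} (f : W ⟶ Y.left) (hf : R f) => hs f hf
  have hσ' : ∀ {W : Scheme.{u}} (f : W ⟶ Y.left) (hf : R f), σ f hf ≫ j.left = f := fun f hf => hσ f hf
  have hJ : Sieve.generate R ∈ Scheme.fppfTopology Y.left :=
    Precoverage.generate_mem_toGrothendieck hR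
  have hsh : Presieve.IsSheafFor (yoneda.obj P.left) R :=
    (GrothendieckTopology.Subcanonical.isSheaf_of_isRepresentable (J := Scheme.fppfTopology) (yoneda.obj P.left)).isSheafFor
      R hJ
  let fam : Presieve.FamilyOfElements (yoneda.obj P.left) R := fun W f hf => σ f hf ≫ ψ.left
  have hcomp : fam.Compatible := fun W₁ W₂ V g₁ g₂ f₁ f₂ hf₁ hf₂ e => by
    show g₁ ≫ σ f₁ hf₁ ≫ ψ.left = g₂ ≫ σ f₂ hf₂ ≫ ψ.left
    rw [← Category.assoc, ← Category.assoc]
    exact comp_eq_of_pair h hψ _ _ (by rw [Category.assoc, Category.assoc, hσ', hσ', e])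
  obtain ⟨χ₀, hχ₀, -⟩ := hsh fam hcomp
  have hχ₀' : ∀ {W : Scheme.{u}} (f : W ⟶ Y.left) (hf : R f), f ≫ χ₀ = σ f hf ≫ ψ.left := fun f hf => hχ₀ f hf
  have hfac : j.left ≫ χ₀ = ψ.left := hom_ext_sieve (Scheme.fppfTopology.pullback_stable j.left hJ) fun g hg => by
    obtain ⟨W, v, f, hf, e⟩ := hg
    rw [← Category.assoc, ← e, Category.assoc, hχ₀' f hf, ← Category.assoc]
    exact comp_eq_of_pair h hψ _ _ (by rw [Category.assoc, hσ', e])
  let χ : Y ⟶ P := Over.homMk χ₀ (hom_ext_sieve hJ fun g hg => by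
    obtain ⟨W, v, f, hf, rfl⟩ := hg
    rw [Category.assoc, reassoc_of% hχ₀' f hf, Over.w ψ, ← Over.w j, Category.assoc, reassoc_of% hσ' f hf])
  refine ⟨χ, Over.OverMorphism.ext hfac, fun χ' hχ' => Over.OverMorphism.ext (hom_ext_sieve hJ fun g hg => ?_)⟩
  obtain ⟨W, v, f, hf, rfl⟩ := hg
  show (v ≫ f) ≫ χ'.left = (v ≫ f) ≫ χ₀
  rw [Category.assoc, Category.assoc, hχ₀' f hf, ← hχ', Over.comp_left, reassoc_of% hσ' f hf]

/-- a locally trivial map stays epimorphic after multiplying by `G` -/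
theorem cancel_whiskerLeft_locTriv (G : Over S) {j : X ⟶ Y}
    (loc : NonAbH1.IsLocallyTrivialFor Scheme.fppfPrecoverage (Over.mk j.left : Over Y.left))
    {a b : G ⊗ Y ⟶ P} (hab : (G ◁ j) ≫ a = (G ◁ j) ≫ b) : a = b := by
  obtain ⟨R, hR, hs⟩ := loc
  have hJ : Sieve.generate R ∈ Scheme.fppfTopology Y.left := Precoverage.generate_mem_toGrothendieck hR
  refine Over.OverMorphism.ext (hom_ext_sieve (Scheme.fppfTopology.pullback_stable (snd G Y).left hJ) fun g hg => ?_)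
  obtain ⟨W, v, f, hf, e⟩ := hg
  obtain ⟨σ, hσ⟩ := hs f hf
  replace hσ : σ ≫ j.left = f := hσ
  let T : Over S := Over.mk (g ≫ (G ⊗ Y).hom)
  let t : T ⟶ G ⊗ Y := Over.homMk g
  have hv : (v ≫ σ) ≫ X.hom = g ≫ (G ⊗ Y).hom := by
    rw [← Over.w j, Category.assoc, reassoc_of% hσ, ← Over.w (snd G Y), reassoc_of% e]
  let x : T ⟶ X := Over.homMk (v ≫ σ) hv
  have ht : lift (t ≫ fst G Y) x ≫ (G ◁ j) = t := by
    apply CartesianMonoidalCategory.hom_ext
    · simp
    · simp only [Category.assoc, whiskerLeft_snd, lift_snd_assoc]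
      refine Over.OverMorphism.ext ?_
      show (v ≫ σ) ≫ j.left = g ≫ (snd G Y).left
      rw [Category.assoc, hσ, e]
  have : t ≫ a = t ≫ b := by rw [← ht, Category.assoc, Category.assoc, hab]
  exact congr($(this).left)

end Groth.Agent.Assoc
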