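import Groth.Agent.Assoc.Bundle
import Groth.Agent.SpecialExt.Basic
import Groth.Prelude.Def_W4bk4git07Quot

/-! # A morphism of torsors is cartesian -/

set_option backward.isDefEq.respectTransparency false

universe u

open CategoryTheory CategoryTheory.Limits MonoidalCategory CartesianMonoidalCategory MonObj AlgebraicGeometry

namespace Groth.Agent.Assoc

variable {S : Scheme.{u}} {H W V Q B : Over S} [GrpObj H]

theorem sq_of_psiY {a : AlgGrp.Action H W} {q : W ⟶ Q} {h : GIT.IsInvariant a q}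
    (hiso : IsIso (GIT.PsiY a q h)) :
    IsPullback a.act.left (snd H W).left q.left q.left :=
  IsPullback.of_iso_pullback ⟨h.left⟩ (asIso (GIT.PsiY a q h)) (pullback.lift_fst _ _ _)
    (pullback.lift_snd _ _ _)

theorem quasiCompact_left (q : W ⟶ Q) [QuasiCompact W.hom] [QuasiSeparated Q.hom] :
    QuasiCompact q.left := by
  have : QuasiCompact (q.left ≫ Q.hom) := by rw [Over.w q]; infer_instance
  exact QuasiCompact.of_comp q.left Q.hom

/-- pullback of a flat surjective quasi-compact morphism, in `Over S` -/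
theorem exists_cover_of (q : W ⟶ Q) [Flat q.left] [Surjective q.left] [QuasiCompact q.left] {T : Over S}
    (y : T ⟶ Q) : ∃ (T' : Over S) (t : T' ⟶ T) (w : T' ⟶ W),
      Flat t.left ∧ Surjective t.left ∧ QuasiCompact t.left ∧ w ≫ q = t ≫ y := by
  have h := ((IsPullback.of_hasPullback y q).map (Over.forget S)).flip
  refine ⟨_, pullback.fst y q, pullback.snd y q, ?_, ?_, ?_, pullback.condition.symm⟩
  · exact MorphismProperty.of_isPullback (P := @Flat) h ‹_›
  · exact MorphismProperty.of_isPullback (P := @Surjective) h ‹_›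
  · exact MorphismProperty.of_isPullback (P := @QuasiCompact) h ‹_›

/-- An equivariant morphism between two torsors is cartesian over the morphism of the bases. -/
theorem torsor_square (b : AlgGrp.Action H W) (r : AlgGrp.Action H V) (q : W ⟶ Q) (π : V ⟶ B) (w : W ⟶ V)
    (p : Q ⟶ B) [Flat q.left] [Surjective q.left] [QuasiCompact q.left]
    (hb : IsPullback b.act.left (snd H W).left q.left q.left)
    (hr : IsPullback r.act.left (snd H V).left π.left π.left)
    (hw : ∀ (T : Over S) (h : T ⟶ H) (x : T ⟶ W),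
      (lift h x ≫ b.act) ≫ w = lift h (x ≫ w) ≫ r.act)
    (hp : q ≫ p = w ≫ π) : IsPullback w q π p := by
  have hinvb : ∀ {T : Over S} (h : T ⟶ H) (x : T ⟶ W), (lift h x ≫ b.act) ≫ q = x ≫ q := fun h x => by
    rw [Category.assoc, (pullback_over b q hb).w, lift_snd_assoc]
  have huniq : ∀ {T : Over S} (x x' : T ⟶ W), x ≫ w = x' ≫ w → x ≫ q = x' ≫ q → x = x' := by
    intro T x x' e₁ e₂
    let h := div b q hb x x' e₂
    have hh : lift h x' ≫ b.act = x := div_spec b q hb x x' e₂
    have h1 : h = 1 := div_unique r π hr (x' ≫ w) h 1 (by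
      rw [← hw, hh, e₁, GrpAct.one_smul'])
    rw [← hh, h1, GrpAct.one_smul']
  have hlift : ∀ {T : Over S} (g : T ⟶ V) (y : T ⟶ Q), g ≫ π = y ≫ p →
      ∃ x : T ⟶ W, x ≫ w = g ∧ x ≫ q = y := by
    intro T g y e
    obtain ⟨T', t, x₀, ht₁, ht₂, ht₃, hx₀⟩ := exists_cover_of q y
    have e' : (t ≫ g) ≫ π = (x₀ ≫ w) ≫ π := by
      rw [Category.assoc, Category.assoc, e, ← hp, reassoc_of% hx₀]
    let x₁ := lift (div r π hr _ _ e') x₀ ≫ b.act
    have hx₁ : x₁ ≫ w = t ≫ g := by rw [hw, div_spec]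
    have hx₁' : x₁ ≫ q = t ≫ y := by rw [hinvb, hx₀]
    obtain ⟨x, hx⟩ := SpecialExt.exists_desc t x₁ fun U z z' hz => huniq _ _
      (by simp only [Category.assoc, hx₁, reassoc_of% hz])
      (by simp only [Category.assoc, hx₁', reassoc_of% hz])
    exact ⟨x, SpecialExt.cancel_cover t (by rw [reassoc_of% hx, hx₁]),
      SpecialExt.cancel_cover t (by rw [reassoc_of% hx, hx₁'])⟩
  refine ⟨⟨hp.symm⟩, ⟨PullbackCone.IsLimit.mk _ (fun s => (hlift s.fst s.snd s.condition).choose)
    (fun s => (hlift s.fst s.snd s.condition).choose_spec.1)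
    (fun s => (hlift s.fst s.snd s.condition).choose_spec.2) (fun s m h₁ h₂ => huniq _ _ ?_ ?_)⟩⟩
  · rw [h₁, (hlift s.fst s.snd s.condition).choose_spec.1]
  · rw [h₂, (hlift s.fst s.snd s.condition).choose_spec.2]

/-- the square of an associated bundle -/
theorem bundle_square {G X : Over S} [GrpObj G] (j : H ⟶ G) [QuasiCompact G.hom] [QuasiCompact X.hom]
    (r : AlgGrp.Action H G)
    (hr : ∀ (T : Over S) (h : T ⟶ H) (g : T ⟶ G), lift h g ≫ r.act = g * (h ≫ j)⁻¹)
    (aX : AlgGrp.Action H X) (b : AlgGrp.Action H (G ⊗ X))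
    (hb : ∀ (T : Over S) (h : T ⟶ H) (g : T ⟶ G) (x : T ⟶ X),
      lift h (lift g x) ≫ b.act = lift (g * (h ≫ j)⁻¹) (lift h x ≫ aX.act))
    (π : G ⟶ B) {hπinv : GIT.IsInvariant r π} (hπ : IsIso (GIT.PsiY r π hπinv))
    {Q : Over S} [QuasiSeparated Q.hom] (q : G ⊗ X ⟶ Q) {hqinv : GIT.IsInvariant b q}
    (hq : IsIso (GIT.PsiY b q hqinv)) [Flat q.left] [Surjective q.left]
    (p : Q ⟶ B) (hp : q ≫ p = fst G X ≫ π) : IsPullback (fst G X) q π p := by
  have : QuasiCompact (G ⊗ X).hom := inferInstanceAs (QuasiCompact (pullback.fst _ _ ≫ G.hom))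
  have : QuasiCompact q.left := quasiCompact_left q
  refine torsor_square b r q π (fst G X) p (sq_of_psiY hq) (sq_of_psiY hπ) (fun T h x => ?_) hp
  have e : lift h x = lift h (lift (x ≫ fst G X) (x ≫ snd G X)) := by rw [lift_comp_fst_snd]
  rw [e, hb, lift_fst, hr]

end Groth.Agent.Assoc
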